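import Cfsg.Agent.Mrg.Omega.Lie.End.KSideMain
import Mathlib

section


/-!
# Simple modules for groups with a root group datum, the isomorphism theorem (helper650)

`R : RGD cs h p T n X`, `ρ₁`, `ρ₂` simple representations in characteristic `p` (any field), `C₁`, `C₂` the fixed
vectors of `U`.

* `Ti_Ti` : `T_i T_i v = T_i (s_i v)`, `s_i` a sum of elements of `T` which does not depend on the representation;
* `pair_surj` : every functional on `V^U` is the restriction of a `U⁻`-fixed functional of `V`;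
* **`exists_iso`** : if `τ : C₁ → C₂` is a `T`-isomorphism and `T_i` kills `C₁` iff it kills `C₂`, for all `i`, then
  `τ` extends to an isomorphism `V₁ → V₂`.
-/

set_option autoImplicit false
set_option linter.unusedSectionVars false
set_option linter.style.haveILetI false

namespace Cfsg.Agent.Omega.FOne.Lift.Sd

open CoxeterSystem Cfsg.Agent.ChevalleyStructure.CoxeterGeom Cfsg.Agent.Tits.Roots Cfsg.Agent.Tits.Core
  Cfsg.Agent.Tits.Exchange Cfsg.Agent.Nodes.Reps Cfsg.Agent.Nodes.BNOf Cfsg.Agent.Nodes.StabComb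
  Cfsg.Agent.Nodes.Bruhat Cfsg.Agent.Nodes.OppDec Cfsg.Agent.Nodes.LeviDec Cfsg.Agent.KFacts.RgdOpp
  Cfsg.Agent.Omega.CR

variable {I W Y : Type*} [Fintype I] [DecidableEq I] [Group W] [Group Y] {M : CoxeterMatrix I}
  {cs : CoxeterSystem M W} {A : I → I → ℤ} {h : IsCartan M A} {p : ℕ} {T : Subgroup Y} {n : I → Y}
  {X : (I → ℤ) → Subgroup Y}

variable {k V V₁ V₂ : Type*} [Field k] [AddCommGroup V] [Module k V] [AddCommGroup V₁] [Module k V₁]
  [AddCommGroup V₂] [Module k V₂]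

/-! ### a single datum as a family -/

section single

variable (R : RGD cs h p T n X)
include R

theorem fam_single : Fam (κ := Unit) (fun _ => cs) (fun _ => h) p T (fun _ => n) (fun _ => X) (fun _ => ⊤) where
  rgd := fun _ => R
  X_le := fun _ _ _ => le_top
  n_mem := fun _ _ => Subgroup.mem_top _
  comm := fun l m hlm => absurd (Subsingleton.elim l m) hlm

omit R in
theorem Ut_single : Ut (κ := Unit) (fun _ => cs) (fun _ => h) (fun _ => X) = RGD.Sup X (RGD.Pos cs h) := by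
  unfold Ut
  exact iSup_const

omit R in
theorem UNt_single : UNt (κ := Unit) (fun _ => cs) (fun _ => h) (fun _ => X) = UN cs h X := by
  unfold UNt
  exact iSup_const

omit R in
theorem GGt_single : GGt (κ := Unit) (fun _ => cs) (fun _ => h) T (fun _ => X) = GG cs h T X := by
  unfold GGt
  rw [iSup_const]
  exact sup_eq_right.2 le_sup_left

variable [Finite Y] [Finite W] [Fact p.Prime] [CharP k p] [FiniteDimensional k V] (ρ : Y →* Module.End k V)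
  (hirr : ∀ L : Submodule k V, Ivt ρ (GG cs h T X) L → L = ⊥ ∨ L = ⊤)
include hirr

theorem simp_fx [Nontrivial V] : Simp ρ T (fx ρ (RGD.Sup X (RGD.Pos cs h))) := by
  have h1 := (fam_single R).simp ρ (by rw [GGt_single]; exact hirr)
  rwa [Ut_single] at h1

theorem gen_fx [Nontrivial V] : Sp ρ (UN cs h X) (fx ρ (RGD.Sup X (RGD.Pos cs h))) = ⊤ := by
  have hir : ∀ L : Submodule k V, Ivt ρ (GGt (κ := Unit) (fun _ => cs) (fun _ => h) T (fun _ => X)) L →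
      L = ⊥ ∨ L = ⊤ := by rw [GGt_single]; exact hirr
  have h1 := ((fam_single R).main ρ hir).gen hir
  rwa [Ut_single, UNt_single] at h1

/-- `V^U` meets every nonzero `T U`-invariant subspace -/
theorem fx_le_of {N : Submodule k V} (hN0 : N ≠ ⊥) (hU : Ivt ρ (RGD.Sup X (RGD.Pos cs h)) N) (hT : Ivt ρ T N) :
    fx ρ (RGD.Sup X (RGD.Pos cs h)) ≤ N := by
  have h1 := (fam_single R).fx_le ρ (by rw [GGt_single]; exact hirr) hN0 (by rw [Ut_single]; exact hU) hT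
  rwa [Ut_single] at h1

theorem exists_pair [Nontrivial V] {v : V} (hv : v ∈ fx ρ (RGD.Sup X (RGD.Pos cs h))) (hv0 : v ≠ 0) :
    ∃ φ ∈ fx (dualRep ρ) (UN cs h X), φ v ≠ 0 := by
  have hir : ∀ L : Submodule k V, Ivt ρ (GGt (κ := Unit) (fun _ => cs) (fun _ => h) T (fun _ => X)) L →
      L = ⊥ ∨ L = ⊤ := by rw [GGt_single]; exact hirr
  have h1 := ((fam_single R).eq_fx ρ hir ((fam_single R).main ρ hir)).2 v (by rw [Ut_single]; exact hv) hv0
  rwa [UNt_single] at h1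

/-- a `U⁻`-fixed functional which is zero on `V^U` is zero -/
theorem eq_zero_of_fx [Nontrivial V] {φ : Module.Dual k V} (hφ : φ ∈ fx (dualRep ρ) (UN cs h X))
    (h0 : ∀ v ∈ fx ρ (RGD.Sup X (RGD.Pos cs h)), φ v = 0) : φ = 0 :=
  eq_zero_of_Sp ρ (gen_fx R ρ hirr) hφ h0

/-- **every functional on `V^U` is the restriction of a `U⁻`-fixed functional** -/
theorem pair_surj [Nontrivial V] (ψ : fx ρ (RGD.Sup X (RGD.Pos cs h)) →ₗ[k] k) :
    ∃ φ ∈ fx (dualRep ρ) (UN cs h X), ∀ v : fx ρ (RGD.Sup X (RGD.Pos cs h)), φ v = ψ v := by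
  let Φ : fx (dualRep ρ) (UN cs h X) →ₗ[k] Module.Dual k (fx ρ (RGD.Sup X (RGD.Pos cs h))) :=
    { toFun := fun φ => φ.1.comp (fx ρ (RGD.Sup X (RGD.Pos cs h))).subtype
      map_add' := fun _ _ => rfl
      map_smul' := fun _ _ => rfl }
  have hΦ : Function.Injective Φ := by
    rw [injective_iff_map_eq_zero]
    intro φ hφ
    apply Subtype.ext
    refine eq_zero_of_fx R ρ hirr φ.2 fun v hv => ?_
    exact congrArg (fun ψ : Module.Dual k (fx ρ (RGD.Sup X (RGD.Pos cs h))) => ψ ⟨v, hv⟩) hφ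
  let Ψ : fx ρ (RGD.Sup X (RGD.Pos cs h)) →ₗ[k] Module.Dual k (fx (dualRep ρ) (UN cs h X)) :=
    { toFun := fun v =>
        { toFun := fun φ => φ.1 v.1
          map_add' := fun _ _ => rfl
          map_smul' := fun _ _ => rfl }
      map_add' := fun v w => by
        ext φ
        exact map_add φ.1 v.1 w.1
      map_smul' := fun c v => by
        ext φ
        exact map_smul φ.1 c v.1 }
  have hΨ : Function.Injective Ψ := by
    rw [injective_iff_map_eq_zero]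
    intro v hv
    by_contra hv0
    obtain ⟨φ, hφ, hφ0⟩ := exists_pair R ρ hirr v.2 (fun h0 => hv0 (Subtype.ext h0))
    exact hφ0 (congrArg (fun ψ : Module.Dual k (fx (dualRep ρ) (UN cs h X)) => ψ ⟨φ, hφ⟩) hv)
  have e1 := LinearMap.finrank_le_finrank_of_injective hΨ
  have e2 := (Subspace.dual_finrank_eq (K := k) (V := fx (dualRep ρ) (UN cs h X)))
  have e3 := (Subspace.dual_finrank_eq (K := k) (V := fx ρ (RGD.Sup X (RGD.Pos cs h))))
  have e4 := LinearMap.finrank_le_finrank_of_injective hΦ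
  have hs : Function.Surjective Φ := by
    rw [← LinearMap.range_eq_top]
    apply Submodule.eq_top_of_finrank_eq
    rw [LinearMap.finrank_range_of_inj hΦ]
    omega
  obtain ⟨φ, hφ⟩ := hs ψ
  exact ⟨φ.1, φ.2, fun v => DFunLike.congr_fun hφ v⟩

end single

/-! ### the operators `T_i` -/

section Ti

variable (R : RGD cs h p T n X)
include R

theorem exists_tt (i : I) : ∃ t : Y → Y, (∀ x, t x ∈ T) ∧ ∀ x ∈ X (sr i), x ≠ 1 →
    ∃ a ∈ X (sr i), ∃ b ∈ X (sr i), n i * x * n i = a * n i * t x * b := by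
  have key : ∀ x : Y, ∃ t ∈ T, x ∈ X (sr i) → x ≠ 1 →
      ∃ a ∈ X (sr i), ∃ b ∈ X (sr i), n i * x * n i = a * n i * t * b := by
    intro x
    by_cases hx : x ∈ X (sr i) ∧ x ≠ 1
    · obtain ⟨a, ha, t, ht, b, hb, e⟩ := n_mul_n R i hx.1 hx.2
      exact ⟨t, ht, fun _ _ => ⟨a, ha, b, hb, e⟩⟩
    · exact ⟨1, one_mem _, fun h1 h2 => absurd ⟨h1, h2⟩ hx⟩
  choose t ht h1 using key
  exact ⟨t, ht, fun x hx hx1 => h1 x hx hx1⟩

variable [Finite Y] [Finite W] [Fact p.Prime] [CharP k p]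

/-- `s_i` -/
noncomputable def si (X : (I → ℤ) → Subgroup Y) (ρ : Y →* Module.End k V) (i : I) (t : Y → Y) (v : V) : V := by
  classical
  letI := Fintype.ofFinite (X (sr i))
  exact ∑ x ∈ Finset.univ.erase (1 : X (sr i)), ρ (t x) v

omit R [Finite W] [Fact p.Prime] [CharP k p] in
theorem si_add (ρ : Y →* Module.End k V) (i : I) (t : Y → Y) (v w : V) :
    si X ρ i t (v + w) = si X ρ i t v + si X ρ i t w := by
  unfold si
  rw [← Finset.sum_add_distrib]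
  exact Finset.sum_congr rfl fun x _ => map_add _ _ _

omit R [Finite W] [Fact p.Prime] [CharP k p] in
theorem si_mem {ρ : Y →* Module.End k V} {i : I} {t : Y → Y} (ht : ∀ x, t x ∈ T) {N : Submodule k V}
    (hN : Ivt ρ T N) {v : V} (hv : v ∈ N) : si X ρ i t v ∈ N := by
  unfold si
  exact N.sum_mem fun x _ => hN _ (ht x) v hv

theorem Ti_Ti (ρ : Y →* Module.End k V) {i : I} {t : Y → Y}
    (htt : ∀ x ∈ X (sr i), x ≠ 1 → ∃ a ∈ X (sr i), ∃ b ∈ X (sr i), n i * x * n i = a * n i * t x * b)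
    (hTU : Ivt ρ T (fx ρ (RGD.Sup X (RGD.Pos cs h)))) {v : V} (hv : v ∈ fx ρ (RGD.Sup X (RGD.Pos cs h))) :
    Ti n X ρ i (Ti n X ρ i v) = Ti n X ρ i (si X ρ i t v) := by
  classical
  letI := Fintype.ofFinite (X (sr i))
  have key : ∀ x : X (sr i), x ≠ 1 → sg ρ (X (sr i)) (ρ (n i) (ρ (x : Y) (ρ (n i) v))) = Ti n X ρ i (ρ (t x) v) := by
    intro x hx1
    obtain ⟨a, ha, b, hb, e⟩ := htt x x.2 (fun h => hx1 (Subtype.ext h))
    rw [← rho_mul, ← rho_mul, e, rho_mul, X_fix R ρ hv i hb, rho_mul, rho_mul, sg_rho_of_mem ρ _ ha, Ti_apply]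
  have h0 : sg ρ (X (sr i)) (ρ (n i) (ρ ((1 : X (sr i)) : Y) (ρ (n i) v))) = 0 := by
    rw [Subgroup.coe_one, rho_one, ← rho_mul ρ (n i)]
    exact sg_fixed ρ (p_dvd R i) fun a ha => X_fix R ρ (hTU _ (n_sq R i) v hv) i ha
  have h1 : Ti n X ρ i (Ti n X ρ i v) =
      ∑ x : X (sr i), sg ρ (X (sr i)) (ρ (n i) (ρ (x : Y) (ρ (n i) v))) := by
    rw [Ti_apply ρ i (Ti n X ρ i v), Ti_apply ρ i v, sg_def ρ (X (sr i)) (ρ (n i) v), map_sum, map_sum]
  rw [h1, ← Finset.add_sum_erase _ _ (Finset.mem_univ (1 : X (sr i))), h0, zero_add]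
  have h2 : si X ρ i t v = ∑ x ∈ Finset.univ.erase (1 : X (sr i)), ρ (t x) v := rfl
  rw [h2, map_sum]
  exact Finset.sum_congr rfl fun x hx => key x (Finset.ne_of_mem_erase hx)

/-- on a simple `T_i`-stable subspace `T_i` is `0` or `s_i` -/
theorem Ti_eq_si (ρ : Y →* Module.End k V) {i : I} {t : Y → Y} (ht : ∀ x, t x ∈ T)
    (htt : ∀ x ∈ X (sr i), x ≠ 1 → ∃ a ∈ X (sr i), ∃ b ∈ X (sr i), n i * x * n i = a * n i * t x * b)
    (hs : Simp ρ T (fx ρ (RGD.Sup X (RGD.Pos cs h)))) (h0 : ¬ ∀ v ∈ fx ρ (RGD.Sup X (RGD.Pos cs h)), Ti n X ρ i v = 0)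
    {v : V} (hv : v ∈ fx ρ (RGD.Sup X (RGD.Pos cs h))) : Ti n X ρ i v = si X ρ i t v := by
  set C := fx ρ (RGD.Sup X (RGD.Pos cs h)) with hC
  -- the kernel
  have h1 : Ivt ρ T (C ⊓ LinearMap.ker (Ti n X ρ i)) := by
    rintro s hs' v ⟨hv, hv'⟩
    refine ⟨hs.inv s hs' v hv, ?_⟩
    rw [SetLike.mem_coe, LinearMap.mem_ker] at hv' ⊢
    rw [Ti_rho R ρ i hs', hv', map_zero]
  have h2 : C ⊓ LinearMap.ker (Ti n X ρ i) = ⊥ := by
    refine (hs.simple _ inf_le_left h1).resolve_right fun h3 => h0 fun v hv => ?_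
    rw [← h3] at hv
    exact hv.2
  have h3 := Ti_Ti R ρ htt hs.inv hv
  have h4 : Ti n X ρ i v - si X ρ i t v ∈ C ⊓ LinearMap.ker (Ti n X ρ i) := by
    refine ⟨Submodule.sub_mem _ (Ti_fix R ρ hv i) (si_mem ht hs.inv hv), ?_⟩
    rw [SetLike.mem_coe, LinearMap.mem_ker, map_sub, h3, sub_self]
  rw [h2, Submodule.mem_bot, sub_eq_zero] at h4
  exact h4

end Ti

/-! ### products -/

/-- the product representation -/
def prodRep (ρ₁ : Y →* Module.End k V₁) (ρ₂ : Y →* Module.End k V₂) : Y →* Module.End k (V₁ × V₂) where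
  toFun g := (ρ₁ g).prodMap (ρ₂ g)
  map_one' := by
    rw [map_one, map_one]; rfl
  map_mul' a b := by
    rw [map_mul, map_mul]; rfl

theorem prodRep_apply (ρ₁ : Y →* Module.End k V₁) (ρ₂ : Y →* Module.End k V₂) (g : Y) (v : V₁ × V₂) :
    prodRep ρ₁ ρ₂ g v = (ρ₁ g v.1, ρ₂ g v.2) := rfl

theorem sg_prod [Finite Y] (ρ₁ : Y →* Module.End k V₁) (ρ₂ : Y →* Module.End k V₂) (B : Subgroup Y) (v : V₁ × V₂) :
    sg (prodRep ρ₁ ρ₂) B v = (sg ρ₁ B v.1, sg ρ₂ B v.2) := by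
  classical
  letI := Fintype.ofFinite B
  rw [sg_def, sg_def, sg_def]
  exact Prod.ext (by rw [Prod.fst_sum]; rfl) (by rw [Prod.snd_sum]; rfl)

theorem Ti_prod [Finite Y] (ρ₁ : Y →* Module.End k V₁) (ρ₂ : Y →* Module.End k V₂) (i : I) (v : V₁ × V₂) :
    Ti n X (prodRep ρ₁ ρ₂) i v = (Ti n X ρ₁ i v.1, Ti n X ρ₂ i v.2) := by
  rw [Ti_apply, Ti_apply, Ti_apply, prodRep_apply, sg_prod]

/-! ### the isomorphism -/

section iso

variable (R : RGD cs h p T n X) [Finite Y] [Finite W] [Fact p.Prime] [CharP k p] [FiniteDimensional k V₁]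
  [FiniteDimensional k V₂] [Nontrivial V₁] [Nontrivial V₂] (ρ₁ : Y →* Module.End k V₁) (ρ₂ : Y →* Module.End k V₂)
  (hirr₁ : ∀ L : Submodule k V₁, Ivt ρ₁ (GG cs h T X) L → L = ⊥ ∨ L = ⊤)
  (hirr₂ : ∀ L : Submodule k V₂, Ivt ρ₂ (GG cs h T X) L → L = ⊥ ∨ L = ⊤)
  (τ : fx ρ₁ (RGD.Sup X (RGD.Pos cs h)) →ₗ[k] fx ρ₂ (RGD.Sup X (RGD.Pos cs h)))
  (hτ0 : τ ≠ 0)
  (hτ : ∀ t ∈ T, ∀ (v w : fx ρ₁ (RGD.Sup X (RGD.Pos cs h))), (w : V₁) = ρ₁ t v → (τ w : V₂) = ρ₂ t (τ v))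
  (hz : ∀ i, (∀ v ∈ fx ρ₁ (RGD.Sup X (RGD.Pos cs h)), Ti n X ρ₁ i v = 0) ↔
    ∀ v ∈ fx ρ₂ (RGD.Sup X (RGD.Pos cs h)), Ti n X ρ₂ i v = 0)

/-- the graph of `τ` -/
def gr (τ : fx ρ₁ (RGD.Sup X (RGD.Pos cs h)) →ₗ[k] fx ρ₂ (RGD.Sup X (RGD.Pos cs h))) : Submodule k (V₁ × V₂) :=
  LinearMap.range ((fx ρ₁ (RGD.Sup X (RGD.Pos cs h))).subtype.prod
    ((fx ρ₂ (RGD.Sup X (RGD.Pos cs h))).subtype.comp τ))

omit [Finite Y] [Finite W] [Fact p.Prime] [CharP k p] [FiniteDimensional k V₁] [FiniteDimensional k V₂]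
  [Nontrivial V₁] [Nontrivial V₂] in
theorem mem_gr {v : V₁ × V₂} : v ∈ gr ρ₁ ρ₂ τ ↔ ∃ c : fx ρ₁ (RGD.Sup X (RGD.Pos cs h)), v = ((c : V₁), (τ c : V₂)) := by
  constructor
  · rintro ⟨c, rfl⟩
    exact ⟨c, rfl⟩
  · rintro ⟨c, rfl⟩
    exact ⟨c, rfl⟩

include R hirr₁ hirr₂ hτ

theorem gr_simp : Simp (prodRep ρ₁ ρ₂) T (gr ρ₁ ρ₂ τ) where
  ne := by
    intro h0
    apply (simp_fx R ρ₁ hirr₁).ne
    rw [eq_bot_iff]
    intro v hv
    have h1 : ((v, (τ ⟨v, hv⟩ : V₂)) : V₁ × V₂) ∈ gr ρ₁ ρ₂ τ := (mem_gr ρ₁ ρ₂ τ).2 ⟨⟨v, hv⟩, rfl⟩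
    rw [h0, Submodule.mem_bot] at h1
    exact (Submodule.mem_bot k).2 (congrArg Prod.fst h1)
  inv := by
    intro t ht v hv
    obtain ⟨c, rfl⟩ := (mem_gr ρ₁ ρ₂ τ).1 hv
    refine (mem_gr ρ₁ ρ₂ τ).2 ⟨⟨ρ₁ t c, (simp_fx R ρ₁ hirr₁).inv t ht c c.2⟩, ?_⟩
    exact Prod.ext rfl (hτ t ht c ⟨ρ₁ t c, (simp_fx R ρ₁ hirr₁).inv t ht c c.2⟩ rfl).symm
  simple := by
    intro L hL hLi
    have h1 : Ivt ρ₁ T (L.map (LinearMap.fst k V₁ V₂)) := by
      rintro t ht _ ⟨v, hv, rfl⟩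
      exact ⟨_, hLi t ht v hv, rfl⟩
    have h2 : L.map (LinearMap.fst k V₁ V₂) ≤ fx ρ₁ (RGD.Sup X (RGD.Pos cs h)) := by
      rintro _ ⟨v, hv, rfl⟩
      obtain ⟨c, rfl⟩ := (mem_gr ρ₁ ρ₂ τ).1 (hL hv)
      exact c.2
    rcases (simp_fx R ρ₁ hirr₁).simple _ h2 h1 with h3 | h3
    · left
      rw [eq_bot_iff]
      intro v hv
      obtain ⟨c, rfl⟩ := (mem_gr ρ₁ ρ₂ τ).1 (hL hv)
      have h4 : (c : V₁) ∈ L.map (LinearMap.fst k V₁ V₂) := ⟨_, hv, rfl⟩
      rw [h3, Submodule.mem_bot] at h4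
      have h5 : c = 0 := Subtype.ext h4
      rw [h5, map_zero]
      exact Submodule.zero_mem _
    · right
      refine le_antisymm hL ?_
      intro v hv
      obtain ⟨c, rfl⟩ := (mem_gr ρ₁ ρ₂ τ).1 hv
      have h4 : (c : V₁) ∈ L.map (LinearMap.fst k V₁ V₂) := by rw [h3]; exact c.2
      obtain ⟨w, hw, e⟩ := h4
      obtain ⟨c', rfl⟩ := (mem_gr ρ₁ ρ₂ τ).1 (hL hw)
      have h5 : c' = c := Subtype.ext e
      rw [← h5]
      exact hw

theorem gr_fix : gr ρ₁ ρ₂ τ ≤ fx (prodRep ρ₁ ρ₂) (RGD.Sup X (RGD.Pos cs h)) := by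
  intro v hv
  obtain ⟨c, rfl⟩ := (mem_gr ρ₁ ρ₂ τ).1 hv
  intro u hu
  rw [prodRep_apply]
  exact Prod.ext (c.2 u hu) ((τ c).2 u hu)

include hz in
theorem gr_Ti (i : I) {v : V₁ × V₂} (hv : v ∈ gr ρ₁ ρ₂ τ) : Ti n X (prodRep ρ₁ ρ₂) i v ∈ gr ρ₁ ρ₂ τ := by
  classical
  obtain ⟨c, rfl⟩ := (mem_gr ρ₁ ρ₂ τ).1 hv
  rw [Ti_prod]
  by_cases h0 : ∀ v ∈ fx ρ₁ (RGD.Sup X (RGD.Pos cs h)), Ti n X ρ₁ i v = 0
  · have h1 := h0 c c.2
    have h2 := (hz i).1 h0 (τ c) (τ c).2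
    dsimp only
    rw [h1, h2]
    exact Submodule.zero_mem _
  · have h0' : ¬ ∀ v ∈ fx ρ₂ (RGD.Sup X (RGD.Pos cs h)), Ti n X ρ₂ i v = 0 := fun h1 => h0 ((hz i).2 h1)
    obtain ⟨t, ht, htt⟩ := exists_tt R i
    dsimp only
    rw [Ti_eq_si R ρ₁ ht htt (simp_fx R ρ₁ hirr₁) h0 c.2, Ti_eq_si R ρ₂ ht htt (simp_fx R ρ₂ hirr₂) h0' (τ c).2]
    letI := Fintype.ofFinite (X (sr i))
    have e1 : si X ρ₁ i t c = ∑ x ∈ Finset.univ.erase (1 : X (sr i)), ρ₁ (t x) c := rfl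
    have e2 : si X ρ₂ i t (τ c : V₂) = ∑ x ∈ Finset.univ.erase (1 : X (sr i)), ρ₂ (t x) (τ c) := rfl
    have e3 : ((∑ x ∈ Finset.univ.erase (1 : X (sr i)), ρ₁ (t x) c,
        ∑ x ∈ Finset.univ.erase (1 : X (sr i)), ρ₂ (t x) (τ c)) : V₁ × V₂) =
        ∑ x ∈ Finset.univ.erase (1 : X (sr i)), prodRep ρ₁ ρ₂ (t x) ((c : V₁), (τ c : V₂)) :=
      Prod.ext (by rw [Prod.fst_sum]; rfl) (by rw [Prod.snd_sum]; rfl)
    rw [e1, e2, e3]
    exact Submodule.sum_mem _ fun x _ => (gr_simp R ρ₁ ρ₂ hirr₁ hirr₂ τ hτ).inv _ (ht x) _ hv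

/-- the module generated by the graph -/
def gN (τ : fx ρ₁ (RGD.Sup X (RGD.Pos cs h)) →ₗ[k] fx ρ₂ (RGD.Sup X (RGD.Pos cs h))) : Submodule k (V₁ × V₂) :=
  Sp (prodRep ρ₁ ρ₂) (UN cs h X) (gr ρ₁ ρ₂ τ)

include hz in
theorem gN_inv : GG cs h T X ≤ stS (prodRep ρ₁ ρ₂) (gN ρ₁ ρ₂ τ) := by
  have hs := gr_simp R ρ₁ ρ₂ hirr₁ hirr₂ τ hτ
  have hU := gr_fix R ρ₁ ρ₂ hirr₁ hirr₂ τ hτ
  refine stable R (prodRep ρ₁ ρ₂) hs.inv hU (fun i v hv => n_mem R (prodRep ρ₁ ρ₂) hs hU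
    (fun v hv => gr_Ti R ρ₁ ρ₂ hirr₁ hirr₂ τ hτ hz i hv) hv) (C := ⊥) (fun i c hc => ?_) bot_le le_rfl
    (fun b hb => ⟨1, one_mem _, b, hb, (one_mul b).symm⟩) fun t ht b hb => T_norm_UN R ht hb
  rw [Subgroup.mem_bot.1 hc, mul_one, one_mul]

include hτ0 in
/-- it is proper -/
theorem gN_ne : gN ρ₁ ρ₂ τ ≠ ⊤ := by
  intro h0
  obtain ⟨c, hc⟩ : ∃ c, τ c ≠ 0 := by
    by_contra hcon
    push Not at hcon
    exact hτ0 (LinearMap.ext hcon)
  obtain ⟨φ₂, hφ₂, hne⟩ := exists_pair R ρ₂ hirr₂ (τ c).2 (fun h1 => hc (Subtype.ext h1))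
  obtain ⟨φ₁, hφ₁, h1⟩ := pair_surj R ρ₁ hirr₁ (φ₂.comp ((fx ρ₂ (RGD.Sup X (RGD.Pos cs h))).subtype.comp τ))
  -- `φ₁ - φ₂` vanishes on the module
  have key : ∀ v ∈ gN ρ₁ ρ₂ τ, φ₁ v.1 = φ₂ v.2 := by
    intro v hv
    unfold gN Sp at hv
    induction hv using Submodule.span_induction with
    | mem x hx =>
      obtain ⟨b, hb, w, hw, rfl⟩ := hx
      obtain ⟨c, rfl⟩ := (mem_gr ρ₁ ρ₂ τ).1 hw
      rw [prodRep_apply]
      change φ₁ (ρ₁ b c) = φ₂ (ρ₂ b (τ c))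
      rw [(mem_fx_dual ρ₁).1 hφ₁ b hb, (mem_fx_dual ρ₂).1 hφ₂ b hb, h1]
      rfl
    | zero => rw [Prod.fst_zero, Prod.snd_zero, map_zero, map_zero]
    | add x y _ _ hx hy => rw [Prod.fst_add, Prod.snd_add, map_add, map_add, hx, hy]
    | smul a x _ hx => rw [Prod.smul_fst, Prod.smul_snd, map_smul, map_smul, hx]
  have h2 := key (0, (τ c : V₂)) (by rw [h0]; trivial)
  rw [map_zero] at h2
  exact hne h2.symm

include hτ0 hz

/-- **The isomorphism.** -/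
theorem exists_iso : ∃ θ : V₁ ≃ₗ[k] V₂, ∀ g ∈ GG cs h T X, ∀ v, θ (ρ₁ g v) = ρ₂ g (θ v) := by
  have hinv := gN_inv R ρ₁ ρ₂ hirr₁ hirr₂ τ hτ hz
  have hne := gN_ne R ρ₁ ρ₂ hirr₁ hirr₂ τ hτ0 hτ
  have hgr : gr ρ₁ ρ₂ τ ≤ gN ρ₁ ρ₂ τ := le_Sp _
  obtain ⟨c, hc⟩ : ∃ c, τ c ≠ 0 := by
    by_contra hcon
    push Not at hcon
    exact hτ0 (LinearMap.ext hcon)
  have hc0 : (c : V₁) ≠ 0 := by
    intro h1
    have : c = 0 := Subtype.ext h1
    rw [this, map_zero] at hc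
    exact hc rfl
  have hc0' : (τ c : V₂) ≠ 0 := fun h1 => hc (Subtype.ext h1)
  set N := gN ρ₁ ρ₂ τ with hN
  -- the two kernels
  have i1 : Ivt ρ₁ (GG cs h T X) (N.comap (LinearMap.inl k V₁ V₂)) := by
    intro g hg v hv
    have h1 := (hinv hg ((v, 0) : V₁ × V₂)).1 hv
    rw [prodRep_apply, map_zero] at h1
    exact h1
  have i2 : Ivt ρ₂ (GG cs h T X) (N.comap (LinearMap.inr k V₁ V₂)) := by
    intro g hg v hv
    have h1 := (hinv hg ((0, v) : V₁ × V₂)).1 hv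
    rw [prodRep_apply, map_zero] at h1
    exact h1
  have hcm : (((c : V₁), (τ c : V₂)) : V₁ × V₂) ∈ N := hgr ((mem_gr ρ₁ ρ₂ τ).2 ⟨c, rfl⟩)
  have top_of : (N.comap (LinearMap.inl k V₁ V₂)) = ⊤ → (N.comap (LinearMap.inr k V₁ V₂)) = ⊤ → False := by
    intro h1 h2
    apply hne
    rw [eq_top_iff]
    rintro ⟨a, b⟩ -
    have h3 : ((a, 0) : V₁ × V₂) ∈ N := by
      have : a ∈ N.comap (LinearMap.inl k V₁ V₂) := by rw [h1]; trivial
      exact this
    have h4 : ((0, b) : V₁ × V₂) ∈ N := by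
      have : b ∈ N.comap (LinearMap.inr k V₁ V₂) := by rw [h2]; trivial
      exact this
    have h5 := N.add_mem h3 h4
    rwa [Prod.mk_add_mk, add_zero, zero_add] at h5
  have k1 : N.comap (LinearMap.inl k V₁ V₂) = ⊥ := by
    refine (hirr₁ _ i1).resolve_right fun h1 => ?_
    refine top_of h1 ((hirr₂ _ i2).resolve_left fun h2 => ?_)
    have h3 : (((c : V₁), 0) : V₁ × V₂) ∈ N := by
      have : (c : V₁) ∈ N.comap (LinearMap.inl k V₁ V₂) := by rw [h1]; trivial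
      exact this
    have h4 := N.sub_mem hcm h3
    rw [Prod.mk_sub_mk, sub_self, sub_zero] at h4
    have h5 : (τ c : V₂) ∈ N.comap (LinearMap.inr k V₁ V₂) := h4
    rw [h2, Submodule.mem_bot] at h5
    exact hc0' h5
  have k2 : N.comap (LinearMap.inr k V₁ V₂) = ⊥ := by
    refine (hirr₂ _ i2).resolve_right fun h1 => ?_
    have h3 : ((0, (τ c : V₂)) : V₁ × V₂) ∈ N := by
      have : (τ c : V₂) ∈ N.comap (LinearMap.inr k V₁ V₂) := by rw [h1]; trivial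
      exact this
    have h4 := N.sub_mem hcm h3
    rw [Prod.mk_sub_mk, sub_self, sub_zero] at h4
    have h5 : (c : V₁) ∈ N.comap (LinearMap.inl k V₁ V₂) := h4
    rw [k1, Submodule.mem_bot] at h5
    exact hc0 h5
  -- the projections
  let p₁ : N →ₗ[k] V₁ := (LinearMap.fst k V₁ V₂).comp N.subtype
  let p₂ : N →ₗ[k] V₂ := (LinearMap.snd k V₁ V₂).comp N.subtype
  have b1 : Function.Bijective p₁ := by
    constructor
    · rw [injective_iff_map_eq_zero]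
      rintro ⟨⟨a, b⟩, hab⟩ h1
      change a = 0 at h1
      subst h1
      have h2 : b ∈ N.comap (LinearMap.inr k V₁ V₂) := hab
      rw [k2, Submodule.mem_bot] at h2
      subst h2
      rfl
    · rw [← LinearMap.range_eq_top]
      refine (hirr₁ _ ?_).resolve_left fun h1 => ?_
      · rintro g hg _ ⟨v, rfl⟩
        exact ⟨⟨prodRep ρ₁ ρ₂ g v, (hinv hg _).1 v.2⟩, rfl⟩
      · have h2 : p₁ ⟨_, hcm⟩ ∈ LinearMap.range p₁ := ⟨_, rfl⟩
        rw [h1, Submodule.mem_bot] at h2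
        exact hc0 h2
  have b2 : Function.Bijective p₂ := by
    constructor
    · rw [injective_iff_map_eq_zero]
      rintro ⟨⟨a, b⟩, hab⟩ h1
      change b = 0 at h1
      subst h1
      have h2 : a ∈ N.comap (LinearMap.inl k V₁ V₂) := hab
      rw [k1, Submodule.mem_bot] at h2
      subst h2
      rfl
    · rw [← LinearMap.range_eq_top]
      refine (hirr₂ _ ?_).resolve_left fun h1 => ?_
      · rintro g hg _ ⟨v, rfl⟩
        exact ⟨⟨prodRep ρ₁ ρ₂ g v, (hinv hg _).1 v.2⟩, rfl⟩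
      · have h2 : p₂ ⟨_, hcm⟩ ∈ LinearMap.range p₂ := ⟨_, rfl⟩
        rw [h1, Submodule.mem_bot] at h2
        exact hc0' h2
  let q₁ := LinearEquiv.ofBijective p₁ b1
  let q₂ := LinearEquiv.ofBijective p₂ b2
  refine ⟨q₁.symm.trans q₂, fun g hg v => ?_⟩
  obtain ⟨x, rfl⟩ := q₁.surjective v
  have h1 : ρ₁ g (q₁ x) = q₁ ⟨prodRep ρ₁ ρ₂ g x, (hinv hg _).1 x.2⟩ := rfl
  rw [h1, LinearEquiv.trans_apply, LinearEquiv.trans_apply, LinearEquiv.symm_apply_apply,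
    LinearEquiv.symm_apply_apply]
  rfl

end iso

end Cfsg.Agent.Omega.FOne.Lift.Sd

end

section


/-!
# Self-duality of simple modules for groups with a root group datum (helper650)

`R : RGD cs h p T n X`, `ρ` simple in characteristic `p`, `C = V^U`, `w` over the longest element.

* `OppW R w σ` : `w` exchanges `X_i` and `X_{-σ i}` and `n_i⁻¹`, `n_{σ i}` modulo `T`; `exists_oppW`;
* `Zi ρ i` : `T_i` kills `V^U`;  `Zi_dual` : `Zi (dualRep ρ) i ↔ Zi ρ (σ i)`;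
* **`exists_form`** : a nonzero form `β` on `C` with `β (t c) c' = β c (w⁻¹ t⁻¹ w c')` and `Zi ρ i ↔ Zi ρ (σ i)` give a
  nondegenerate invariant form on `V`;
* `exists_form_of_triv` : the case where `T` is trivial on `C`.
-/

set_option autoImplicit false
set_option linter.unusedSectionVars false
set_option linter.style.haveILetI false

namespace Cfsg.Agent.Omega.FOne.Lift.Sd

open CoxeterSystem Cfsg.Agent.ChevalleyStructure.CoxeterGeom Cfsg.Agent.Tits.Roots Cfsg.Agent.Tits.Core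
  Cfsg.Agent.Tits.Exchange Cfsg.Agent.Nodes.Reps Cfsg.Agent.Nodes.BNOf Cfsg.Agent.Nodes.StabComb
  Cfsg.Agent.Nodes.Bruhat Cfsg.Agent.Nodes.OppDec Cfsg.Agent.Nodes.LeviDec Cfsg.Agent.KFacts.RgdOpp
  Cfsg.Agent.Omega.CR

variable {I W Y : Type*} [Fintype I] [DecidableEq I] [Group W] [Group Y] {M : CoxeterMatrix I}
  {cs : CoxeterSystem M W} {A : I → I → ℤ} {h : IsCartan M A} {p : ℕ} {T : Subgroup Y} {n : I → Y}
  {X : (I → ℤ) → Subgroup Y}

variable {k V : Type*} [Field k] [AddCommGroup V] [Module k V]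

/-- `w` exchanges `U` and `U⁻`; `σ` is the opposition on the nodes -/
structure OppW (cs : CoxeterSystem M W) (h : IsCartan M A) (T : Subgroup Y) (n : I → Y) (X : (I → ℤ) → Subgroup Y)
    (w : Y) (σ : I → I) : Prop where
  T_le : ∀ t ∈ T, w⁻¹ * t * w ∈ T
  U_le : ∀ u ∈ UN cs h X, w⁻¹ * u * w ∈ RGD.Sup X (RGD.Pos cs h)
  U_ge : ∀ u ∈ RGD.Sup X (RGD.Pos cs h), w * u * w⁻¹ ∈ UN cs h X
  Xi : ∀ i, (X (sr i)).map (MulAut.conj w⁻¹).toMonoidHom = X (-sr (σ i))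
  ni : ∀ i, ∃ t ∈ T, w⁻¹ * (n i)⁻¹ * w = n (σ i) * t

section

variable (R : RGD cs h p T n X) [Finite Y] [Finite W] [Fact p.Prime] [CharP k p]
  (ρ : Y →* Module.End k V)

/-- `T_i` kills `V^U` -/
def Zi (cs : CoxeterSystem M W) (h : IsCartan M A) (n : I → Y) (X : (I → ℤ) → Subgroup Y)
    (ρ : Y →* Module.End k V) (i : I) : Prop := ∀ v ∈ fx ρ (RGD.Sup X (RGD.Pos cs h)), Ti n X ρ i v = 0

variable {w : Y} {σ : I → I} (O : OppW cs h T n X w σ)
include R O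

/-- `ρ w` maps `V^U` onto `V^{U⁻}` -/
theorem w_mem {c : V} (hc : c ∈ fx ρ (RGD.Sup X (RGD.Pos cs h))) : ρ w c ∈ fx ρ (UN cs h X) := by
  intro u hu
  have h1 := hc _ (O.U_le u hu)
  have e : u * w = w * (w⁻¹ * u * w) := by group
  rw [← rho_mul, e, rho_mul, h1]

theorem w_mem' {c : V} (hc : c ∈ fx ρ (UN cs h X)) : ρ w⁻¹ c ∈ fx ρ (RGD.Sup X (RGD.Pos cs h)) := by
  intro u hu
  have h1 := hc _ (O.U_ge u hu)
  have e : u * w⁻¹ = w⁻¹ * (w * u * w⁻¹) := by group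
  rw [← rho_mul, e, rho_mul, h1]

/-- the transpose of `T_i` -/
theorem Ti_dual (i : I) : ∃ t ∈ T, ∀ (φ : Module.Dual k V) (c : V),
    Ti n X (dualRep ρ) i φ (ρ w c) = φ (ρ w (Ti n X ρ (σ i) (ρ t c))) := by
  classical
  obtain ⟨t, ht, e⟩ := O.ni i
  refine ⟨t, ht, fun φ c => ?_⟩
  letI := Fintype.ofFinite (X (sr i))
  have h1 : Ti n X (dualRep ρ) i φ (ρ w c) = φ (ρ (n i)⁻¹ (sg ρ (X (sr i)) (ρ w c))) := by
    rw [Ti_apply, sg_def, sg_def, map_sum, map_sum, LinearMap.sum_apply]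
    refine Fintype.sum_equiv (Equiv.inv (X (sr i))) _ _ fun x => ?_
    rw [dualRep_apply, dualRep_apply]
    rfl
  have h2 : sg ρ (X (sr i)) (ρ w c) = ρ w (sg ρ (X (-sr (σ i))) c) := by
    have h3 := rho_sg ρ (X (sr i)) w⁻¹ (ρ w c)
    rw [O.Xi, rho_inv_rho] at h3
    rw [← h3, rho_rho_inv]
  have h3 : ρ (n i)⁻¹ (ρ w (sg ρ (X (-sr (σ i))) c)) = ρ w (Ti n X ρ (σ i) (ρ t c)) := by
    have e1 : (n i)⁻¹ * w = w * (n (σ i) * t) := by rw [← e]; group
    rw [← rho_mul, e1, rho_mul]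
    congr 1
    have h4 := rho_sg ρ (X (-sr (σ i))) (n (σ i) * t) c
    have h5 : (X (-sr (σ i))).map (MulAut.conj (n (σ i) * t)).toMonoidHom = X (sr (σ i)) := by
      have h6 := R.conj (σ i) (-sr (σ i)) (isRoot_sr cs h (σ i)).neg
      rw [map_neg, rep_simple_sr, neg_neg] at h6
      have h7 := R.tor (-sr (σ i)) (isRoot_sr cs h (σ i)).neg t ht
      have h8 : (MulAut.conj (n (σ i) * t)).toMonoidHom =
          ((MulAut.conj (n (σ i))).toMonoidHom).comp (MulAut.conj t).toMonoidHom := by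
        rw [map_mul]; rfl
      rw [h8, ← Subgroup.map_map]
      exact (congrArg (cj (n (σ i))) h7).trans h6
    rw [h5] at h4
    rw [h4, Ti_apply, ← rho_mul]
  rw [h1, h2, h3]

variable [FiniteDimensional k V] [Nontrivial V]
  (hirr : ∀ L : Submodule k V, Ivt ρ (GG cs h T X) L → L = ⊥ ∨ L = ⊤)
include hirr

omit O in
/-- the opposite datum -/
theorem hirr_opp : ∀ L : Submodule k V, Ivt ρ (GG cs h T (fun x => X (-x))) L → L = ⊥ ∨ L = ⊤ := by
  rw [GG_opp]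
  exact hirr

omit O in
/-- a `U`-fixed functional which is zero on `V^{U⁻}` is zero -/
theorem eq_zero_of_opp {φ : Module.Dual k V} (hφ : φ ∈ fx (dualRep ρ) (RGD.Sup X (RGD.Pos cs h)))
    (h0 : ∀ v ∈ fx ρ (UN cs h X), φ v = 0) : φ = 0 := by
  refine eq_zero_of_fx (opp R) ρ (hirr_opp R ρ hirr) ?_ ?_
  · rw [UN_opp]; exact hφ
  · rw [U_opp]; exact h0

theorem Zi_dual (i : I) : Zi cs h n X (dualRep ρ) i ↔ Zi cs h n X ρ (σ i) := by
  obtain ⟨t, ht, e⟩ := Ti_dual R ρ O i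
  have hT : Ivt ρ T (fx ρ (RGD.Sup X (RGD.Pos cs h))) := (simp_fx R ρ hirr).inv
  constructor
  · intro h0 c hc
    by_contra hne
    -- apply it to `t⁻¹ c`
    have h1 : Ti n X ρ (σ i) (ρ t (ρ t⁻¹ c)) ≠ 0 := by rwa [rho_rho_inv]
    have h2 : ρ w (Ti n X ρ (σ i) (ρ t (ρ t⁻¹ c))) ∈ fx ρ (UN cs h X) :=
      w_mem R ρ O (Ti_fix R ρ (by rw [rho_rho_inv]; exact hc) (σ i))
    obtain ⟨φ, hφ, hφ0⟩ := exists_pair (opp R) ρ (hirr_opp R ρ hirr) (by rw [U_opp]; exact h2)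
      (rho_ne_zero ρ w h1)
    rw [UN_opp] at hφ
    apply hφ0
    rw [← e φ (ρ t⁻¹ c), h0 φ hφ, LinearMap.zero_apply]
  · intro h0 φ hφ
    refine eq_zero_of_opp R ρ hirr (Ti_fix R (dualRep ρ) hφ i) fun v hv => ?_
    have h1 : v = ρ w (ρ w⁻¹ v) := (rho_rho_inv ρ w v).symm
    rw [h1, e φ (ρ w⁻¹ v), h0 _ (hT t ht _ (w_mem' R ρ O hv)), map_zero, map_zero]

/-- **An invariant form.** -/
theorem exists_form (hZ : ∀ i, Zi cs h n X ρ i ↔ Zi cs h n X ρ (σ i))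
    (β : fx ρ (RGD.Sup X (RGD.Pos cs h)) →ₗ[k] fx ρ (RGD.Sup X (RGD.Pos cs h)) →ₗ[k] k) (hβ0 : β ≠ 0)
    (hβ : ∀ t ∈ T, ∀ (c tc c' tc' : fx ρ (RGD.Sup X (RGD.Pos cs h))), (tc : V) = ρ t c →
      (tc' : V) = ρ (w⁻¹ * t⁻¹ * w) c' → β tc c' = β c tc') :
    ∃ b : LinearMap.BilinForm k V, (∀ g ∈ GG cs h T X, ∀ u v, b (ρ g u) (ρ g v) = b u v) ∧
      (∀ u, (∀ v, b u v = 0) → u = 0) ∧ ∀ v, (∀ u, b u v = 0) → v = 0 := by
  -- the isomorphism `V^U → V^{U⁻}`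
  have hTC : Ivt ρ T (fx ρ (RGD.Sup X (RGD.Pos cs h))) := (simp_fx R ρ hirr).inv
  have hopp : ∀ v ∈ fx ρ (RGD.Sup (fun x => X (-x)) (RGD.Pos cs h)), v ∈ fx ρ (UN cs h X) := fun v hv b hb =>
    hv b (by rw [U_opp]; exact hb)
  have hopp' : ∀ v ∈ fx ρ (UN cs h X), v ∈ fx ρ (RGD.Sup (fun x => X (-x)) (RGD.Pos cs h)) := fun v hv b hb =>
    hv b (by rw [U_opp] at hb; exact hb)
  have key : ∀ c : fx ρ (RGD.Sup X (RGD.Pos cs h)), ∃ φ : fx (dualRep ρ) (RGD.Sup X (RGD.Pos cs h)), ∀ c' : fx ρ (RGD.Sup X (RGD.Pos cs h)),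
      (φ : Module.Dual k V) (ρ w c') = β c c' := by
    intro c
    -- a functional on `V^{U⁻}`
    let ψ : fx ρ (RGD.Sup (fun x => X (-x)) (RGD.Pos cs h)) →ₗ[k] k :=
      { toFun := fun v => β c ⟨ρ w⁻¹ v, w_mem' R ρ O (hopp v v.2)⟩
        map_add' := fun u v => by
          rw [← map_add]
          congr 1
          exact Subtype.ext (map_add _ _ _)
        map_smul' := fun a v => by
          rw [RingHom.id_apply, ← map_smul]
          congr 1
          exact Subtype.ext (map_smul _ _ _) }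
    obtain ⟨φ, hφ, h1⟩ := pair_surj (opp R) ρ (hirr_opp R ρ hirr) ψ
    rw [UN_opp] at hφ
    refine ⟨⟨φ, hφ⟩, fun c' => ?_⟩
    have h2 := h1 ⟨ρ w c', hopp' _ (w_mem R ρ O c'.2)⟩
    change φ (ρ w c') = _
    rw [show φ (ρ w c') = ψ ⟨ρ w c', _⟩ from h2]
    change β c _ = β c c'
    congr 1
    exact Subtype.ext (rho_inv_rho ρ w c')
  choose τ₀ hτ₀ using key
  have uniq : ∀ φ φ' : fx (dualRep ρ) (RGD.Sup X (RGD.Pos cs h)),
      (∀ c' : fx ρ (RGD.Sup X (RGD.Pos cs h)), (φ : Module.Dual k V) (ρ w c') = (φ' : Module.Dual k V) (ρ w c')) → φ = φ' := by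
    intro φ φ' h1
    apply Subtype.ext
    rw [← sub_eq_zero]
    refine eq_zero_of_opp R ρ hirr (Submodule.sub_mem _ φ.2 φ'.2) fun v hv => ?_
    have h2 := h1 ⟨ρ w⁻¹ v, w_mem' R ρ O hv⟩
    rw [LinearMap.sub_apply, sub_eq_zero]
    change (φ : Module.Dual k V) (ρ w (ρ w⁻¹ v)) = (φ' : Module.Dual k V) (ρ w (ρ w⁻¹ v)) at h2
    rwa [rho_rho_inv] at h2
  let τ : fx ρ (RGD.Sup X (RGD.Pos cs h)) →ₗ[k] fx (dualRep ρ) (RGD.Sup X (RGD.Pos cs h)) :=
    { toFun := τ₀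
      map_add' := fun c d => uniq _ _ fun c' => by
        rw [hτ₀, map_add, LinearMap.add_apply, Submodule.coe_add, LinearMap.add_apply, hτ₀, hτ₀]
      map_smul' := fun a c => uniq _ _ fun c' => by
        rw [hτ₀, map_smul, LinearMap.smul_apply, RingHom.id_apply, Submodule.coe_smul, LinearMap.smul_apply, hτ₀] }
  have hτ : ∀ c c' : fx ρ (RGD.Sup X (RGD.Pos cs h)), ((τ c : fx (dualRep ρ) (RGD.Sup X (RGD.Pos cs h))) : Module.Dual k V) (ρ w c') = β c c' := hτ₀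
  have hτ0 : τ ≠ 0 := by
    intro h0
    apply hβ0
    ext c c'
    rw [← hτ c c', h0]
    rfl
  obtain ⟨θ, hθ⟩ := exists_iso R ρ (dualRep ρ) hirr (dual_irr ρ hirr) τ hτ0 (by
    intro t ht v v' hv'
    have h1 : (⟨dualRep ρ t (τ v), fun u hu => by
        have h2 : t⁻¹ * u * t ∈ RGD.Sup X (RGD.Pos cs h) := by
          have h3 := R.T_le_normalizer_U (inv_mem ht)
          have h4 := (Subgroup.mem_normalizer_iff.1 h3 u).1 hu
          rwa [inv_inv] at h4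
        have e : u * t = t * (t⁻¹ * u * t) := by group
        rw [← rho_mul, e, rho_mul, (τ v).2 _ h2]⟩ : fx (dualRep ρ) (RGD.Sup X (RGD.Pos cs h))) = τ v' := by
      refine uniq _ _ fun c' => ?_
      have h5 : w⁻¹ * t⁻¹ * w ∈ T := O.T_le _ (inv_mem ht)
      rw [hτ v' c', hβ t ht v v' c' ⟨ρ (w⁻¹ * t⁻¹ * w) c', hTC _ h5 _ c'.2⟩ hv' rfl, ← hτ]
      change (τ v : Module.Dual k V) (ρ t⁻¹ (ρ w c')) = (τ v : Module.Dual k V) (ρ w (ρ (w⁻¹ * t⁻¹ * w) c'))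
      rw [← rho_mul, ← rho_mul]
      congr 3
      group
    rw [← h1]) (fun i => by
      have h1 := Zi_dual R ρ O hirr i
      exact (hZ i).trans h1.symm)
  refine ⟨θ.toLinearMap, ?_, ?_, ?_⟩
  · intro g hg u v
    change θ (ρ g u) (ρ g v) = θ u v
    rw [hθ g hg, dualRep_apply, rho_inv_rho]
  · intro u hu
    have h1 : θ u = 0 := LinearMap.ext hu
    exact (map_eq_zero_iff θ θ.injective).1 h1
  · intro v hv
    by_contra hv0
    obtain ⟨φ, hφ⟩ := (Module.forall_dual_apply_eq_zero_iff k v).not.2 hv0 |> not_forall.1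
    obtain ⟨u, rfl⟩ := θ.surjective φ
    exact hφ (hv u)

/-- `T` trivial on `V^U` -/
theorem exists_form_of_triv (hZ : ∀ i, Zi cs h n X ρ i ↔ Zi cs h n X ρ (σ i))
    (htr : ∀ t ∈ T, ∀ c ∈ fx ρ (RGD.Sup X (RGD.Pos cs h)), ρ t c = c) :
    ∃ b : LinearMap.BilinForm k V, (∀ g ∈ GG cs h T X, ∀ u v, b (ρ g u) (ρ g v) = b u v) ∧
      (∀ u, (∀ v, b u v = 0) → u = 0) ∧ ∀ v, (∀ u, b u v = 0) → v = 0 := by
  obtain ⟨c, hc, hc0⟩ := (Submodule.ne_bot_iff _).1 (simp_fx R ρ hirr).ne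
  obtain ⟨ψ, hψ⟩ := not_forall.1 ((Module.forall_dual_apply_eq_zero_iff k
    (⟨c, hc⟩ : fx ρ (RGD.Sup X (RGD.Pos cs h)))).not.2 fun h0 => hc0 (congrArg Subtype.val h0))
  let β : fx ρ (RGD.Sup X (RGD.Pos cs h)) →ₗ[k] fx ρ (RGD.Sup X (RGD.Pos cs h)) →ₗ[k] k :=
    LinearMap.mk₂ k (fun a b => ψ a * ψ b) (fun a a' b => by rw [map_add, add_mul])
      (fun s a b => by rw [map_smul, smul_eq_mul, smul_eq_mul, mul_assoc]) (fun a b b' => by rw [map_add, mul_add])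
      (fun s a b => by rw [map_smul, smul_eq_mul, smul_eq_mul, mul_left_comm])
  refine exists_form R ρ O hirr hZ β ?_ ?_
  · intro h0
    have h1 : β ⟨c, hc⟩ ⟨c, hc⟩ = 0 := by rw [h0]; rfl
    exact hψ (mul_self_eq_zero.1 h1)
  · intro t ht c tc c' tc' h1 h2
    rw [htr t ht c c.2] at h1
    rw [htr _ (O.T_le _ (inv_mem ht)) c' c'.2] at h2
    rw [Subtype.ext h1, Subtype.ext h2]

end

end Cfsg.Agent.Omega.FOne.Lift.Sd

end

section


/-!
# A complement avoiding a vector (OMEGA, (6''); helper115)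

`K ⊴ X` acts on the finite group `M` of exponent two, `M` irreducible for `X`.

* `Inv K L` : `L ≤ M` is `K`-invariant;
* **`exists_irr`** : for `v ≠ 1` there are `K`-invariant `N`, `C` with `M = N × C`, `N` minimal, `v ∉ C`;
* `fix_left`, `fix_right` : an element of `K` fixing `n * c` fixes `n` and `c`.
-/

set_option autoImplicit false
set_option linter.unusedSectionVars false

namespace Cfsg.Agent.Omega.FOne.Lift

open Subgroup

variable {X : Type*} [Group X] {M : Type*} [Group M] [MulDistribMulAction X M] {K : Subgroup X}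

/-- `L` is `K`-invariant -/
def Inv (K : Subgroup X) (L : Subgroup M) : Prop := ∀ k ∈ K, ∀ m ∈ L, k • m ∈ L

theorem Inv.bot : Inv K (⊥ : Subgroup M) := by
  intro k _ m hm
  rw [mem_bot] at hm ⊢
  rw [hm, smul_one]

theorem Inv.inf {L L' : Subgroup M} (h : Inv K L) (h' : Inv K L') : Inv K (L ⊓ L') :=
  fun k hk m hm => ⟨h k hk m hm.1, h' k hk m hm.2⟩

/-- minimal `K`-invariant -/
structure Mini (K : Subgroup X) (N : Subgroup M) : Prop where
  inv : Inv K N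
  ne : N ≠ ⊥
  min : ∀ L : Subgroup M, L ≤ N → Inv K L → L = ⊥ ∨ L = N

theorem mul_comm_of_sq {M : Type*} [Group M] (sq : ∀ m : M, m * m = 1) (a b : M) : a * b = b * a := by
  have h1 : ∀ z : M, z⁻¹ = z := fun z => inv_eq_of_mul_eq_one_right (sq z)
  calc a * b = (a * b)⁻¹ := (h1 _).symm
    _ = b⁻¹ * a⁻¹ := mul_inv_rev _ _
    _ = b * a := by rw [h1, h1]

theorem mem_sup_of_sq {M : Type*} [Group M] (sq : ∀ m : M, m * m = 1) {L L' : Subgroup M} {m : M} :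
    m ∈ L ⊔ L' ↔ ∃ a ∈ L, ∃ b ∈ L', a * b = m := by
  have : L.Normal := ⟨fun n hn g => by rwa [mul_comm_of_sq sq g n, mul_inv_cancel_right]⟩
  exact Subgroup.mem_sup_of_normal_left

theorem Inv.sup (sq : ∀ m : M, m * m = 1) {L L' : Subgroup M} (h : Inv K L) (h' : Inv K L') : Inv K (L ⊔ L') := by
  intro k hk m hm
  obtain ⟨a, ha, b, hb, rfl⟩ := (mem_sup_of_sq sq).1 hm
  rw [smul_mul']
  exact (mem_sup_of_sq sq).2 ⟨_, h k hk a ha, _, h' k hk b hb, rfl⟩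

/-- the image under an element of `X` -/
def tr (x : X) (L : Subgroup M) : Subgroup M := L.map (MulDistribMulAction.toMonoidHom M x)

theorem mem_tr {x : X} {L : Subgroup M} {m : M} : m ∈ tr x L ↔ ∃ l ∈ L, x • l = m := Iff.rfl

theorem mem_tr' {x : X} {L : Subgroup M} {m : M} : m ∈ tr x L ↔ x⁻¹ • m ∈ L := by
  rw [mem_tr]
  constructor
  · rintro ⟨l, hl, rfl⟩
    rwa [inv_smul_smul]
  · intro h
    exact ⟨_, h, smul_inv_smul x m⟩

theorem Inv.tr (hK : K.Normal) {L : Subgroup M} (h : Inv K L) (x : X) : Inv K (tr x L) := by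
  intro k hk m hm
  rw [mem_tr'] at hm ⊢
  have h1 := h _ (hK.conj_mem k hk x⁻¹) _ hm
  rw [inv_inv, ← mul_smul] at h1
  rw [← mul_smul]
  have e : x⁻¹ * k * x * x⁻¹ = x⁻¹ * k := by group
  rwa [e] at h1

theorem Mini.tr (hK : K.Normal) {N : Subgroup M} (h : Mini K N) (x : X) : Mini K (tr x N) where
  inv := h.inv.tr hK x
  ne := by
    intro h0
    apply h.ne
    rw [eq_bot_iff]
    intro n hn
    have h1 : x • n ∈ Lift.tr x N := ⟨n, hn, rfl⟩
    rw [h0, mem_bot] at h1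
    rw [mem_bot, ← inv_smul_smul x n, h1, smul_one]
  min := by
    intro L hL hLi
    have h1 := h.min (Lift.tr x⁻¹ L) (by
      intro m hm
      rw [mem_tr', inv_inv] at hm
      have := mem_tr'.1 (hL hm)
      rwa [inv_smul_smul] at this) (hLi.tr hK x⁻¹)
    rcases h1 with h1 | h1
    · left
      rw [eq_bot_iff]
      intro m hm
      have h2 : x⁻¹ • m ∈ Lift.tr x⁻¹ L := ⟨m, hm, rfl⟩
      rw [h1, mem_bot] at h2
      rw [mem_bot, ← smul_inv_smul x m, h2, smul_one]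
    · right
      refine le_antisymm hL ?_
      intro m hm
      rw [mem_tr', ← h1, mem_tr', inv_inv, smul_inv_smul] at hm
      exact hm

/-- a nontrivial `K`-invariant subgroup contains a minimal one -/
theorem exists_mini [Finite M] {L : Subgroup M} (h : Inv K L) (h0 : L ≠ ⊥) : ∃ N ≤ L, Mini K N := by
  have hfin : {N : Subgroup M | Inv K N ∧ N ≠ ⊥ ∧ N ≤ L}.Finite := Set.toFinite _
  obtain ⟨N, hN⟩ := hfin.exists_minimal ⟨L, h, h0, le_rfl⟩
  refine ⟨N, hN.1.2.2, hN.1.1, hN.1.2.1, fun L' hL' hi => ?_⟩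
  by_cases h1 : L' = ⊥
  · exact Or.inl h1
  · right
    exact le_antisymm hL' (hN.2 ⟨hi, h1, hL'.trans hN.1.2.2⟩ hL')

/-- **A complement avoiding a vector.** -/
theorem exists_irr [Finite M] (hK : K.Normal) (sq : ∀ m : M, m * m = 1)
    (irr : ∀ L : Subgroup M, (∀ x : X, ∀ m ∈ L, x • m ∈ L) → L = ⊥ ∨ L = ⊤) {v : M} (hv : v ≠ 1) :
    ∃ N C : Subgroup M, Mini K N ∧ Inv K C ∧ v ∉ C ∧ N ⊓ C = ⊥ ∧ N ⊔ C = ⊤ := by
  -- the minimal subgroups generate
  have hsoc : ∀ C : Subgroup M, C ≠ ⊤ → ∃ N : Subgroup M, Mini K N ∧ ¬ N ≤ C := by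
    intro C hC
    by_contra hcon
    push Not at hcon
    set S : Subgroup M := sSup {N | Mini K N} with hS
    have hSi : ∀ x : X, ∀ m ∈ S, x • m ∈ S := by
      intro x
      have h1 : S ≤ tr x⁻¹ S := by
        rw [hS]
        refine sSup_le fun N hN => ?_
        intro m hm
        rw [mem_tr', inv_inv]
        have h2 : tr x N ≤ sSup {N | Mini K N} := le_sSup (Mini.tr hK hN x)
        exact h2 ⟨m, hm, rfl⟩
      intro m hm
      have := mem_tr'.1 (h1 hm)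
      rwa [inv_inv] at this
    rcases irr S hSi with h1 | h1
    · have h2 : (⊤ : Subgroup M) ≠ ⊥ := fun h3 => hv (mem_bot.1 (h3 ▸ mem_top v))
      obtain ⟨N, -, hN⟩ := exists_mini (K := K) (L := (⊤ : Subgroup M)) (fun _ _ _ _ => mem_top _) h2
      apply hN.ne
      rw [eq_bot_iff, ← h1]
      exact le_sSup hN
    · apply hC
      rw [eq_top_iff, ← h1]
      exact sSup_le fun N hN => hcon N hN
  -- a maximal invariant subgroup avoiding `v`
  have hfin : {C : Subgroup M | Inv K C ∧ v ∉ C}.Finite := Set.toFinite _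
  obtain ⟨C, hC⟩ := hfin.exists_maximal ⟨⊥, Inv.bot, fun h => hv (mem_bot.1 h)⟩
  have hmax : ∀ L : Subgroup M, Inv K L → ¬ L ≤ C → v ∈ C ⊔ L := by
    intro L hL hLC
    by_contra h1
    exact hLC (le_sup_right.trans (hC.2 ⟨hC.1.1.sup sq hL, h1⟩ le_sup_left))
  have hCt : C ≠ ⊤ := fun h => hC.1.2 (h ▸ mem_top v)
  obtain ⟨N, hN, hNC⟩ := hsoc C hCt
  have hNC' : N ⊓ C = ⊥ := by
    rcases hN.min _ inf_le_left (hN.inv.inf hC.1.1) with h1 | h1
    · exact h1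
    · exact absurd (inf_eq_left.1 h1) hNC
  refine ⟨N, C, hN, hC.1.1, hC.1.2, hNC', ?_⟩
  by_contra htop
  obtain ⟨N', hN', hN'C⟩ := hsoc _ htop
  have h1 : N' ⊓ (N ⊔ C) = ⊥ := by
    rcases hN'.min _ inf_le_left (hN'.inv.inf (hN.inv.sup sq hC.1.1)) with h1 | h1
    · exact h1
    · exact absurd (inf_eq_left.1 h1) hN'C
  obtain ⟨c, hc, n, hn, e⟩ := (mem_sup_of_sq sq).1 (hmax N hN.inv hNC)
  obtain ⟨c', hc', n', hn', e'⟩ := (mem_sup_of_sq sq).1 (hmax N' hN'.inv fun h => hN'C (h.trans le_sup_right))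
  have h2 : n' = n * (c'⁻¹ * c) := by
    rw [← e] at e'
    rw [mul_comm_of_sq sq n, mul_assoc, ← e', inv_mul_cancel_left]
  have h3 : n' ∈ N' ⊓ (N ⊔ C) := by
    refine ⟨hn', ?_⟩
    rw [h2]
    exact mul_mem (le_sup_left (α := Subgroup M) hn) (le_sup_right (α := Subgroup M) (mul_mem (inv_mem hc') hc))
  rw [h1, mem_bot] at h3
  apply hC.1.2
  rw [← e', h3, mul_one]
  exact hc'

section dec

variable {N C : Subgroup M} (hN : Inv K N) (hC : Inv K C) (hNC : N ⊓ C = ⊥)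

include hN hC hNC

theorem eq_of_mul {n n' c c' : M} (hn : n ∈ N) (hn' : n' ∈ N) (hc : c ∈ C) (hc' : c' ∈ C) (h : n * c = n' * c') :
    n = n' ∧ c = c' := by
  have h1 : n'⁻¹ * n = c' * c⁻¹ := by
    rw [eq_mul_inv_iff_mul_eq, mul_assoc, h, inv_mul_cancel_left]
  have h2 : n'⁻¹ * n ∈ N ⊓ C := by
    refine Subgroup.mem_inf.2 ⟨N.mul_mem (N.inv_mem hn') hn, ?_⟩
    rw [h1]
    exact C.mul_mem hc' (C.inv_mem hc)
  rw [hNC, mem_bot] at h2
  have h3 : n = n' := (inv_mul_eq_one.1 h2).symm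
  subst h3
  exact ⟨rfl, mul_left_cancel h⟩

theorem fix_left {k : X} (hk : k ∈ K) {n c : M} (hn : n ∈ N) (hc : c ∈ C) (h : k • (n * c) = n * c) : k • n = n := by
  rw [smul_mul'] at h
  exact (eq_of_mul hN hC hNC (hN k hk n hn) hn (hC k hk c hc) hc h).1

end dec

end Cfsg.Agent.Omega.FOne.Lift

end

section


/-!
# The `U`-fixed vectors of an irreducible module, trivial torus (OMEGA, (6''); helper115)

`K ≤ X` acts on the group `M` of exponent two; `R` a root group datum in `K` with trivial torus which generates `K`.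

* **`eq_of_fixed`** (Curtis, Richen) : `N ≤ M` minimal `K`-invariant: at most one element `≠ 1` of `N` is fixed by `U`.
-/

set_option autoImplicit false
set_option linter.unusedSectionVars false

namespace Cfsg.Agent.Omega.FOne.Lift

open CoxeterSystem Cfsg.Agent.ChevalleyStructure.CoxeterGeom Cfsg.Agent.Tits.Roots Cfsg.Agent.Tits.Core
  Cfsg.Agent.Tits.RootComb Cfsg.Agent.Nodes.Comb Cfsg.Agent.Nodes.Reps Cfsg.Agent.Nodes.BNOf
  Cfsg.Agent.Nodes.Bruhat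
open Cfsg.Agent.Omega.CR

variable {X : Type*} [Group X] {M : Type*} [Group M] [MulDistribMulAction X M] {K : Subgroup X}

/-- the commutative group `N` -/
@[reducible] def cg (sq : ∀ m : M, m * m = 1) (N : Subgroup M) : CommGroup N :=
  { (inferInstance : Group N) with mul_comm := fun a b => Subtype.ext (mul_comm_of_sq sq a b) }

section

variable {N : Subgroup M} (hN : Inv K N)

/-- the action of `K` on `N` -/
@[reducible] def actN : SMul K N := ⟨fun k n => ⟨(k : X) • (n : M), hN k k.2 n n.2⟩⟩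

end

variable {I Wy : Type*} [Fintype I] [DecidableEq I] [Group Wy] {Mx : CoxeterMatrix I}
  {cs : CoxeterSystem Mx Wy} {A : I → I → ℤ} {h : IsCartan Mx A} {Tt : Subgroup K} {n : I → K}
  {Xr : (I → ℤ) → Subgroup K}

/-- **Curtis, Richen.** -/
theorem eq_of_fixed [Finite X] [Finite M] [Finite Wy] (sq : ∀ m : M, m * m = 1) {N : Subgroup M} (hN : Mini K N)
    (R : RGD cs h 2 Tt n Xr) (hG : GG cs h Tt Xr = ⊤) (hT : Tt = ⊥) {a b : M} (ha : a ∈ N) (hb : b ∈ N)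
    (ha1 : a ≠ 1) (hb1 : b ≠ 1) (hau : ∀ u ∈ RGD.Sup Xr (RGD.Pos cs h), (u : X) • a = a)
    (hbu : ∀ u ∈ RGD.Sup Xr (RGD.Pos cs h), (u : X) • b = b) : a = b := by
  have : Fact (Nat.Prime 2) := ⟨Nat.prime_two⟩
  let _ : CommGroup N := cg sq N
  let _ : DistribMulAction K (Additive N) :=
    { smul := fun k v => Additive.ofMul ⟨(k : X) • ((v.toMul : N) : M), hN.inv k k.2 _ v.toMul.2⟩
      one_smul := fun v => by
        apply Additive.toMul.injective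
        exact Subtype.ext (one_smul X _)
      mul_smul := fun k l v => by
        apply Additive.toMul.injective
        exact Subtype.ext (mul_smul (k : X) (l : X) _)
      smul_zero := fun k => by
        apply Additive.toMul.injective
        exact Subtype.ext (smul_one (k : X))
      smul_add := fun k v w => by
        apply Additive.toMul.injective
        exact Subtype.ext (smul_mul' (k : X) _ _) }
  have hsm : ∀ (k : K) (m : M) (hm : m ∈ N) (hm' : (k : X) • m ∈ N),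
      k • (Additive.ofMul (⟨m, hm⟩ : N)) = Additive.ofMul (⟨(k : X) • m, hm'⟩ : N) := fun _ _ _ _ => rfl
  have F : Fam (fun _ : Unit => cs) (fun _ => h) 2 Tt (fun _ => n) (fun _ => Xr) (fun _ => (⊤ : Subgroup K)) :=
    { rgd := fun _ => R
      X_le := fun _ _ _ => le_top
      n_mem := fun _ _ => Subgroup.mem_top _
      comm := fun l m hlm => absurd (Subsingleton.elim l m) hlm }
  have hUt : Ut (fun _ : Unit => cs) (fun _ => h) (fun _ => Xr) = RGD.Sup Xr (RGD.Pos cs h) := by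
    unfold Ut
    exact iSup_const
  have hGt : GGt (fun _ : Unit => cs) (fun _ => h) Tt (fun _ => Xr) = ⊤ := by
    rw [eq_top_iff, ← hG]
    exact GG_le_GGt (cs := fun _ : Unit => cs) (h := fun _ => h) (T := Tt) (X := fun _ => Xr) ()
  have hp : ∀ v : Additive N, (2 : ℕ) • v = 0 := by
    intro v
    rw [two_nsmul]
    apply Additive.toMul.injective
    exact Subtype.ext (sq _)
  have hirr : ∀ L : AddSubgroup (Additive N), (∀ g ∈ GGt (fun _ : Unit => cs) (fun _ => h) Tt (fun _ => Xr),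
      ∀ v ∈ L, g • v ∈ L) → L = ⊥ ∨ L = ⊤ := by
    intro L hL
    rw [hGt] at hL
    set L' : Subgroup M := (AddSubgroup.toSubgroup' L).map N.subtype with hL'
    have hmem : ∀ (m : M) (hm : m ∈ N), m ∈ L' ↔ Additive.ofMul (⟨m, hm⟩ : N) ∈ L := by
      intro m hm
      rw [hL', Subgroup.mem_map]
      constructor
      · rintro ⟨x, hx, rfl⟩
        exact hx
      · intro hx
        exact ⟨⟨m, hm⟩, hx, rfl⟩
    have hle : L' ≤ N := Subgroup.map_subtype_le _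
    have hinv : Inv K L' := by
      intro k hk m hm
      rw [hmem _ (hN.inv k hk m (hle hm))]
      have h1 := (hmem m (hle hm)).1 hm
      exact hL ⟨k, hk⟩ (Subgroup.mem_top _) _ h1
    rcases hN.min L' hle hinv with h1 | h1
    · left
      rw [eq_bot_iff]
      intro v hv
      have h2 : ((v.toMul : N) : M) ∈ L' := (hmem _ v.toMul.2).2 hv
      rw [h1, Subgroup.mem_bot] at h2
      rw [AddSubgroup.mem_bot]
      apply Additive.toMul.injective
      exact Subtype.ext h2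
    · right
      rw [eq_top_iff]
      intro v _
      exact (hmem _ v.toMul.2).1 (by rw [h1]; exact v.toMul.2)
  set a' : Additive N := Additive.ofMul ⟨a, ha⟩ with ha'
  set b' : Additive N := Additive.ofMul ⟨b, hb⟩ with hb'
  have ha0 : a' ≠ 0 := fun h0 => ha1 (congrArg (fun v : Additive N => ((v.toMul : N) : M)) h0)
  have hfa : ∀ u ∈ RGD.Sup Xr (RGD.Pos cs h), u • a' = a' := by
    intro u hu
    apply Additive.toMul.injective
    exact Subtype.ext (hau u hu)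
  have hfb : ∀ u ∈ RGD.Sup Xr (RGD.Pos cs h), u • b' = b' := by
    intro u hu
    apply Additive.toMul.injective
    exact Subtype.ext (hbu u hu)
  have haa : a' + a' = 0 := by
    have := hp a'
    rwa [two_nsmul] at this
  have hb2 : b' ∈ AddSubgroup.zmultiples a' := by
    refine F.act_le hp hirr (e := AddSubgroup.zmultiples a') ?_ ?_ ?_ (x := b') ?_
    · intro h0
      rw [AddSubgroup.zmultiples_eq_bot] at h0
      exact ha0 h0
    · intro u hu x hx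
      rw [hUt] at hu
      obtain ⟨j, rfl⟩ := AddSubgroup.mem_zmultiples_iff.1 hx
      have h1 : u • (j • a') = j • (u • a') := map_zsmul (DistribSMul.toAddMonoidHom (Additive N) u) j a'
      rw [h1, hfa u hu]
    · intro t ht x hx
      rw [hT, Subgroup.mem_bot] at ht
      rwa [ht, one_smul]
    · intro u hu
      rw [hUt] at hu
      exact hfb u hu
  obtain ⟨j, hj⟩ := AddSubgroup.mem_zmultiples_iff.1 hb2
  rcases Int.even_or_odd j with ⟨k, rfl⟩ | ⟨k, rfl⟩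
  · exfalso
    rw [add_zsmul, ← zsmul_add, haa, zsmul_zero] at hj
    exact hb1 (congrArg (fun v : Additive N => ((v.toMul : N) : M)) hj).symm
  · rw [add_zsmul, mul_comm, mul_zsmul, two_zsmul, haa, zsmul_zero, zero_add, one_zsmul] at hj
    exact congrArg (fun v : Additive N => ((v.toMul : N) : M)) hj

end Cfsg.Agent.Omega.FOne.Lift

end
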